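import Groth.Agent.Krr.H495.Rank
import Mathlib.CategoryTheory.Limits.Constructions.FiniteProductsOfBinaryProducts

/-!
# The rank of a finite coproduct of finite locally free modules

* `K935.CoprodRank.isFinLocFreeOfRank_sigma`: `∐ M l` has rank `∑ d l` if `M l` has rank `d l`.
-/

set_option autoImplicit false
universe u

open CategoryTheory CategoryTheory.Limits AlgebraicGeometry Opposite TopologicalSpace
open Groth.Agent.Sga67.Sec Groth.Agent.Sga67.LocBasis

namespace K935.CoprodRank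

variable {X : Scheme.{u}}

theorem isFinLocFreeOfRank_of_iso {r : ℕ} {M N : X.Modules} (e : M ≅ N) (h : FlatMod.IsFinLocFreeOfRank r M) :
    FlatMod.IsFinLocFreeOfRank r N := fun x => by
  obtain ⟨U, hx, ⟨φ⟩⟩ := h x
  exact ⟨U, hx, ⟨(Scheme.Modules.restrictFunctor U.ι).mapIso e.symm ≪≫ φ⟩⟩

theorem isFinLocFreeOfRank_zero_of_isZero {M : X.Modules} (h : IsZero M) : FlatMod.IsFinLocFreeOfRank 0 M := by
  intro x
  refine ⟨⊤, trivial, nonempty_restrict_iso_iff.mpr ⟨Fin.elim0, fun V hV => ?_⟩⟩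
  have h1 : ∀ s : Sec M V, s = 0 := fun s => by
    have h2 : appS (𝟙 M) V s = appS (0 : M ⟶ M) V s := by
      rw [(IsZero.iff_id_eq_zero M).mp h]
    exact h2
  refine ⟨fun a b _ => funext fun i => i.elim0, fun s => ⟨0, ?_⟩⟩
  rw [map_zero, h1 s]

/-- The rank of a finite coproduct. -/
theorem isFinLocFreeOfRank_sigma {r : ℕ} (M : Fin r → X.Modules) (d : Fin r → ℕ)
    (h : ∀ l, FlatMod.IsFinLocFreeOfRank (d l) (M l)) : FlatMod.IsFinLocFreeOfRank (∑ l, d l) (∐ M) := by
  induction r with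
  | zero =>
    have h1 : IsZero (∐ M) := by
      rw [IsZero.iff_id_eq_zero]
      exact Sigma.hom_ext _ _ fun l => l.elim0
    rw [Fin.sum_univ_zero]
    exact isFinLocFreeOfRank_zero_of_isZero h1
  | succ r ih =>
    rw [Fin.sum_univ_succ]
    let e : ∐ M ≅ M 0 ⊞ ∐ (fun l : Fin r => M l.succ) :=
      (coproductIsCoproduct M).coconePointUniqueUpToIso
        (extendCofanIsColimit M (coproductIsCoproduct (fun l : Fin r => M l.succ))
          (BinaryBiproduct.isColimit (M 0) (∐ fun l : Fin r => M l.succ)))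
    exact isFinLocFreeOfRank_of_iso e.symm
      (Groth.Agent.Krr.H495.Rank.rank_biprod (h 0) (ih _ _ fun l => h l.succ))

end K935.CoprodRank
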