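import Groth.Agent.Dual.H366.ClassMain
import Groth.Agent.Dual.H339.OmegaRank
import Groth.Agent.Sga67.KosConormal
import Groth.Agent.S1677
import Groth.Agent.S2842

/-!
# Closed immersions between smooth schemes

`s : X ⟶ W` a closed immersion, `w : W ⟶ Y` and `s ≫ w` smooth (of relative dimension `n` and `m`).

* `K935.SmoothImm.isCIMorphism_of_smooth`: a smooth morphism is a complete intersection morphism.
* `K935.SmoothImm.isRegularClosedImmersion`: `s` is a regular closed immersion.
* `K935.SmoothImm.length_add`: the length of a regular sequence generating the ideal near `s x` is `n - m`.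
* `K935.SmoothImm.isFinLocFreeOfRank_conormal`: the conormal module is locally free of rank `n - m`.
* `K935.SmoothImm.nonempty_det_iso`: `ω_X ⊗ Λ^(n-m) C ≅ s^* ω_W`.
-/

set_option autoImplicit false
universe u

open CategoryTheory CategoryTheory.Limits AlgebraicGeometry Opposite TopologicalSpace
open scoped TensorProduct
open Groth.Agent.Sga67.Sec Groth.Agent.Sga67.ExtSheaf Groth.Agent.Sga67.LocBasis Groth.Agent.Sga67.KosImm
  Groth.Agent.Sga67.KosConormal
open Groth.Agent Groth.Agent.Dual Groth.Agent.Dual.H366 ConSec Conormal WedgeIso ClassMain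

namespace K935.SmoothImm

/-- A smooth morphism is a complete intersection morphism. -/
theorem isCIMorphism_of_smooth {X S : Scheme.{u}} (p : X ⟶ S) [Smooth p] : CInt.IsCIMorphism p := by
  refine ⟨inferInstance, inferInstance, fun x => ?_⟩
  have h3 : Smooth (p.fiberToSpecResidueField (p x)) :=
    MorphismProperty.pullback_snd _ _ inferInstance
  have h4 : IsRegularLocalRing (CInt.fiberStalk p x) :=
    Groth.Agent.VarietyA.RegSmoothSch.isRegularLocalRing_stalk_of_mem_smoothLocus
      (k := S.residueField (p x)) (p.fiberToSpecResidueField (p x)) (p.asFiber x)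
      (by rw [Scheme.Hom.smoothLocus_eq_top]; trivial)
  exact Groth.Agent.S2842.isCompleteIntersection_of_isRegularLocalRing _

/-- A closed immersion between smooth schemes is regular. -/
theorem isRegularClosedImmersion {X W Y : Scheme.{u}} (s : X ⟶ W) [IsClosedImmersion s] (w : W ⟶ Y) [Smooth w]
    [Smooth (s ≫ w)] : Mor2.IsRegularClosedImmersion s :=
  Groth.Agent.S1677.result w s (isCIMorphism_of_smooth (s ≫ w))

section Alg

/-- Additivity of ranks in `0 → K ⊗ C → K ⊗ F → K ⊗ W → 0`. -/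
theorem rank_add {B K C F W : Type u} [CommRing B] [Field K] [Algebra B K] [AddCommGroup C] [Module B C]
    [AddCommGroup F] [Module B F] [AddCommGroup W] [Module B W] {a n m : ℕ}
    (c : Module.Basis (Fin a) B C) (e : Module.Basis (Fin n) B F) (w : Module.Basis (Fin m) B W)
    (δ : C →ₗ[B] F) (p : F →ₗ[B] W) (hp : Function.Surjective p) (hex : Function.Exact δ p)
    (hinj : Function.Injective (δ.baseChange K)) : a + m = n := by
  have h1 : Module.finrank K (K ⊗[B] C) = a := by
    rw [Module.finrank_eq_card_basis (c.baseChange K), Fintype.card_fin]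
  have h2 : Module.finrank K (K ⊗[B] F) = n := by
    rw [Module.finrank_eq_card_basis (e.baseChange K), Fintype.card_fin]
  have h3 : Module.finrank K (K ⊗[B] W) = m := by
    rw [Module.finrank_eq_card_basis (w.baseChange K), Fintype.card_fin]
  have : Module.Finite K (K ⊗[B] C) := Module.Finite.of_basis (c.baseChange K)
  have : Module.Finite K (K ⊗[B] F) := Module.Finite.of_basis (e.baseChange K)
  have h4 : Function.Exact (δ.baseChange K) (p.baseChange K) := lTensor_exact K hex hp
  have h5 : Function.Surjective (p.baseChange K) := LinearMap.lTensor_surjective K hp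
  have h6 := LinearMap.finrank_range_add_finrank_ker (p.baseChange K)
  rw [LinearMap.range_eq_top.mpr h5, finrank_top, h3, h2, h4.linearMap_ker_eq,
    LinearMap.finrank_range_of_inj hinj, h1] at h6
  omega

end Alg

section

variable {X W Y : Scheme.{u}} (s : X ⟶ W) [IsClosedImmersion s] (w : W ⟶ Y)
  [QuasiCompact (pullback.diagonal w)] [QuasiCompact (pullback.diagonal (s ≫ w))] [Smooth w] [Smooth (s ≫ w)]

/-- The length of a regular sequence defining `X` in `W`. -/
theorem length_add {n m : ℕ} (hΩ : FlatMod.IsFinLocFreeOfRank n (Omega.sheaf w))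
    (hΩ' : FlatMod.IsFinLocFreeOfRank m (Omega.sheaf (s ≫ w))) (c : Chart s) (x : X) (hx : s x ∈ c.U) :
    c.l.length + m = n := by
  obtain ⟨U₁, hxU₁, h1⟩ := hΩ' x
  obtain ⟨b, hb⟩ := nonempty_restrict_iso_iff.mp h1
  obtain ⟨O₂, hxO₂, h2⟩ := hΩ (s x)
  obtain ⟨e, he⟩ := nonempty_restrict_iso_iff.mp h2
  obtain ⟨O', hxO', hO'⟩ := exists_preimage s x U₁ hxU₁
  obtain ⟨ch, hch, hchO⟩ := exists_ch w (s x) (O' ⊓ O₂ ⊓ c.U) ⟨⟨hxO', hxO₂⟩, hx⟩
  have hle1 : s ⁻¹ᵁ ch.V ≤ U₁ := (s.preimage_mono (hchO.trans (inf_le_left.trans inf_le_left))).trans hO'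
  have hle2 : s ⁻¹ᵁ ch.V ≤ s ⁻¹ᵁ O₂ := s.preimage_mono (hchO.trans (inf_le_left.trans inf_le_right))
  have hle3 : s ⁻¹ᵁ ch.V ≤ c.V := s.preimage_mono (hchO.trans inf_le_right)
  let e' := ((Krr.H487.LocBasisPull.isLocBasis_pbS s he).restrict hle2).basis le_rfl
  let b' := (hb.restrict hle1).basis le_rfl
  let c' := ((isLocBasis_fN c).restrict hle3).basis le_rfl
  let := (X.evaluation (s ⁻¹ᵁ ch.V) x hch).hom.toAlgebra
  refine rank_add (K := X.residueField x) c' e' b' (appS (dMap s w) (s ⁻¹ᵁ ch.V))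
    (appS (pMap s w) (s ⁻¹ᵁ ch.V)) (surj_pMap s w ch) ?_
    ((H328.SmoothPt.mem_smoothLocus_iff s w ch x hch).mp (by rw [Scheme.Hom.smoothLocus_eq_top]; trivial))
  intro y
  constructor
  · intro hy
    exact ex_pMap s w ch y hy
  · rintro ⟨z, rfl⟩
    exact pMap_dMap s w ch.V ch.hV z

/-- The conormal module of a closed immersion between smooth schemes. -/
theorem isFinLocFreeOfRank_conormal {r n m : ℕ} (h : m + r = n)
    (hΩ : FlatMod.IsFinLocFreeOfRank n (Omega.sheaf w))
    (hΩ' : FlatMod.IsFinLocFreeOfRank m (Omega.sheaf (s ≫ w))) :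
    FlatMod.IsFinLocFreeOfRank r (Omega.conormal s) := by
  intro x
  obtain ⟨c, hc, -⟩ := exists_chart (isRegularClosedImmersion s w) x ⊤ trivial
  have h1 := length_add s w hΩ hΩ' c x hc
  have h2 : c.l.length = r := by omega
  refine ⟨c.V, hc, nonempty_restrict_iso_iff.mpr ?_⟩
  have h3 := (isLocBasis_fN c).reindex (finCongr h2.symm)
  exact ⟨_, h3⟩

/-- **The determinant isomorphism** `Λ^m Ω_X ⊗ Λ^r C ≅ s^* Λ^n Ω_W`. -/
theorem nonempty_det_iso {r m n : ℕ} (h : r + m = n)
    (hC : FlatMod.IsFinLocFreeOfRank m (Omega.conormal s))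
    (hΩ : FlatMod.IsFinLocFreeOfRank n (Omega.sheaf w))
    {L LC : X.Modules} (hL : ExtPow.IsExtPow r (Omega.sheaf (s ≫ w)) L)
    (hLC : ExtPow.IsExtPow m (Omega.conormal s) LC) {D : W.Modules} (hD : ExtPow.IsExtPow n (Omega.sheaf w) D) :
    Nonempty (CohB1.tensorMod L LC ≅ (Scheme.Modules.pullback s).obj D) := by
  have hB := isBasis_goodCh s w hC hΩ
  have hΩ' : FlatMod.IsFinLocFree (Omega.sheaf w) := fun x => by
    obtain ⟨U, hx, hU⟩ := hΩ x
    exact ⟨U, n, hx, hU⟩
  have hD' : ExtPow.IsExtPow n ((Scheme.Modules.pullback s).obj (Omega.sheaf w))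
      ((Scheme.Modules.pullback s).obj D) :=
    Krr.H487.ExtPull.isExtPow_pullback s hΩ' hD
      (ExtQCoh.exists_isExtPow n (VarietyB.PullSec.isQCoh_pullback s _ (ConSec.isQCoh_omega w)))
  obtain ⟨φW, hφW⟩ := exists_phi hL
  obtain ⟨φC, hφC⟩ := exists_phi hLC
  obtain ⟨ψ, hψ⟩ := exists_phi hD'
  obtain ⟨g, hg⟩ := WedgeSheaf.exists_wdg hB (dat s w m n).isWedgeDatum h φW hφW φC hφC ψ hψ
  have hiso : IsIso g := by
    refine isIso_of_bijective g fun x U hxU => ?_
    obtain ⟨k, hk, -⟩ := exists_goodCh s w hC hΩ x ⊤ trivial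
    obtain ⟨y, hy⟩ := (mem_smoothLocus_iff s w h k x hk).mp (by rw [Scheme.Hom.smoothLocus_eq_top]; trivial)
    obtain ⟨V, hV, hxV, hb⟩ := bijective_wdg hB (dat s w m n) h φW hφW φC hφC ψ hψ g hg k x hk y hy
    exact ⟨U ⊓ V, inf_le_left, ⟨hxU, hxV⟩, hb _ inf_le_right⟩
  exact ⟨asIso g⟩

end

end K935.SmoothImm
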