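import Groth.Agent.Dual.H376.ChartExist
import Groth.Agent.Krr.H478.EpiIso
import Groth.Agent.Krr.H495.Rank
import Groth.Agent.Sga2lef.H102.ProZero
import Groth.Prelude.Def_RegImm

/-!
# Operations on conormal modules

* `K935.ConormalOps.isFinLocFreeOfRank_of_koszul`: the conormal module of a Koszul-regular closed immersion of
  codimension `d` is locally free of rank `d`.
* `K935.ConormalOps.incl_cancel`: if an ideal is the sum of ideals `J l`, the inclusions of the `J l` are jointly
  epimorphic.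
* `K935.ConormalOps.pullIncl_cancel`: the same after pullback.
-/

set_option autoImplicit false
universe u

open CategoryTheory CategoryTheory.Limits AlgebraicGeometry Opposite TopologicalSpace
open Groth.Agent Groth.Agent.Sga67.Sec Groth.Agent.Sga67.LocBasis
open Groth.Agent.Sga2lef.H102.ProZero (incl incl_ι)

namespace K935.ConormalOps

/-- The conormal module of a Koszul-regular closed immersion of codimension `d` has rank `d`. -/
theorem isFinLocFreeOfRank_of_koszul {X Y : Scheme.{u}} (i : X ⟶ Y) [IsClosedImmersion i] {d : ℕ}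
    (hi : RegImm.IsRegularImmersionOfCodim RegImm.Kind.koszul d i) :
    FlatMod.IsFinLocFreeOfRank d (Omega.conormal i) := by
  intro x
  obtain ⟨U, hx, -, l, hl, hl', hk⟩ := hi.2 x
  subst hl
  obtain ⟨c, hc⟩ := Dual.H376.ChartExist.exists_kchart_of_seq (i := i) U.1 U.2 l hl' (by
    rw [Scheme.Hom.ker_apply]
    exact hk)
  have hx' : i x ∈ c.U := by
    rw [hc]
    exact hx
  exact ⟨i ⁻¹ᵁ c.U, hx', nonempty_restrict_iso_iff.mpr ⟨_, Dual.H376.ChartExist.isLocBasis_bN c⟩⟩

variable {X Y : Scheme.{u}}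

theorem hom_eq_zero_of_affine {M N : X.Modules} (h : M ⟶ N)
    (H : ∀ (U : X.affineOpens) (s : Sec M U.1), appS h U.1 s = 0) : h = 0 := by
  refine hom_ext_of_locally fun x U hx => ?_
  obtain ⟨_, ⟨V, rfl⟩, hxV, hVU⟩ := Opens.isBasis_iff_nbhd.mp (affineBasis X) hx
  exact ⟨V.1, hVU, hxV, fun s => H V s⟩

open Groth.Agent.PerfA.IdealModule in
/-- If `I` is the sum of the `J l`, the inclusions `J l → I` are jointly epimorphic. -/
theorem incl_cancel {ι : Type*} (I : X.IdealSheafData) (J : ι → X.IdealSheafData) (hJ : ∀ l, J l ≤ I)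
    (hI : ∀ U : X.affineOpens, I.ideal U = ⨆ l, (J l).ideal U) {Z : X.Modules}
    (h : ClSub.idealMod I ⟶ Z) (hz : ∀ l, incl (hJ l) ≫ h = 0) : h = 0 := by
  refine hom_eq_zero_of_affine h fun U s => ?_
  let K : Submodule Γ(X, U.1) Γ(X, U.1) :=
    { carrier := {v | ∃ s : Sec (ClSub.idealMod I) U.1, val I s = v ∧ appS h U.1 s = 0}
      add_mem' := by
        rintro _ _ ⟨s, rfl, hs⟩ ⟨t, rfl, ht⟩
        refine ⟨s + t, (appS (ClSub.idealModι I) U.1).map_add s t, ?_⟩
        rw [map_add, hs, ht, add_zero]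
      zero_mem' := ⟨0, val_zero I, map_zero _⟩
      smul_mem' := by
        rintro a _ ⟨s, rfl, hs⟩
        refine ⟨a • s, val_smul I a s, ?_⟩
        rw [map_smul, hs, smul_zero] }
  have h1 : I.ideal U ≤ K := by
    rw [hI U]
    refine iSup_le fun l => ?_
    intro v hv
    obtain ⟨t, rfl⟩ := exists_val_eq (J l) U hv
    refine ⟨appS (incl (hJ l)) U.1 t, ?_, ?_⟩
    · change appS (ClSub.idealModι I) U.1 (appS (incl (hJ l)) U.1 t) = _
      rw [← appS_comp, incl_ι]
      rfl
    · rw [← appS_comp, hz l]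
      rfl
  obtain ⟨s', hs', h0⟩ := h1 (val_mem I U s)
  rwa [val_injective I U.1 hs'] at h0

/-- The same after pullback. -/
theorem pullIncl_cancel {ι : Type*} (I : X.IdealSheafData) (J : ι → X.IdealSheafData) (hJ : ∀ l, J l ≤ I)
    (hI : ∀ U : X.affineOpens, I.ideal U = ⨆ l, (J l).ideal U) (f : Y ⟶ X) {Z : Y.Modules}
    (h : (Scheme.Modules.pullback f).obj (ClSub.idealMod I) ⟶ Z)
    (hz : ∀ l, (Scheme.Modules.pullback f).map (incl (hJ l)) ≫ h = 0) : h = 0 := by
  let adj := Scheme.Modules.pullbackPushforwardAdjunction f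
  have h1 : adj.homEquiv _ _ h = 0 := by
    refine incl_cancel I J hJ hI _ fun l => ?_
    rw [← adj.homEquiv_naturality_left, hz l]
    rw [Adjunction.homEquiv_unit, Functor.map_zero, comp_zero]
  have h2 : h = (adj.homEquiv _ _).symm 0 := by rw [← h1, Equiv.symm_apply_apply]
  rw [h2, Adjunction.homEquiv_counit, Functor.map_zero, zero_comp]

end K935.ConormalOps
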