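import Groth.Agent.RegImm.K561.BlowBundle
import Groth.Agent.Krr.H478.ImIdeal
import Groth.Agent.Krr.H496.PullK0
import Groth.Agent.Omega.K935.ConormalOps
import Groth.Agent.PerfB.FibreConc
import Groth.Agent.Flat2H.RegularLCI
import Groth.Agent.Flat2H.KoszulSeq
import Groth.Agent.PerfC.PullRestrict
import Groth.Agent.PerfA.QCohSerre

/-!
# The conormal module of the blow-up of a Koszul-regular cosection in the projective bundle

* `K935.BlowConormal.rg_kernel`: on a standard chart, the image of `ker q → π^* E → O_P` is generated by the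
  `u(b_i) - y_i u(b_k)`.
* `K935.BlowConormal.ker_eq`: the ideal of the blow-up is that image.
* `K935.BlowConormal.nonempty_iso`: the conormal module is the kernel of `j^* q`.
-/

set_option autoImplicit false
universe u

open CategoryTheory CategoryTheory.Limits AlgebraicGeometry Opposite TopologicalSpace BlowUp

namespace K935.BlowConormal

open Groth.Agent.Sga67.Sec Groth.Agent.Sga67.LocBasis Groth.Agent.Sga67.LocBasisStalk
open Groth.Agent.Krr.H487.LocBasisPull Groth.Agent.Krr.H496.GenLocus Groth.Agent.Krr.H496.ProjCrit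
open Groth.Agent.Krr.H496.ExcChart Groth.Agent.Krr.H496.ExcCoord Groth.Agent.Divis
open Groth.Agent.Divis.BlowChart Groth.Agent.Dix.IdealModCartier K561.PChart K561.BlowBundle
open Groth.Agent.Krr.H478

variable {X X' P : Scheme.{u}}

section Sections

variable {E : X.Modules} (u : E ⟶ Coh.structureModule X) (π : P ⟶ X)

/-- `π^* u` followed by `π^* O_X ≅ O_P`. -/
noncomputable def pu : (Scheme.Modules.pullback π).obj E ⟶ Coh.structureModule P :=
  (Scheme.Modules.pullback π).map u ≫ adj π (SheafOfModules.unitToPushforwardObjUnit π.toRingCatSheafHom)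

theorem toO_pu {V : X.Opens} (s : Sec E V) :
    toO (appS (pu u π) (π ⁻¹ᵁ V) (pbS π E s)) = π.app V (toO (appS u V s)) := by
  unfold pu
  rw [appS_comp, appS_pbS, adj_pbS]
  rfl

theorem toO_pu_res {V : X.Opens} (s : Sec E V) {W : P.Opens} (h : W ≤ π ⁻¹ᵁ V) :
    toO (appS (pu u π) W (res _ h (pbS π E s))) = (π.appLE V W h).hom (toO (appS u V s)) := by
  rw [appS_res, toO_res, toO_pu]
  rfl

variable {u π} {O1 : P.Modules} (q : (Scheme.Modules.pullback π).obj E ⟶ O1)

/-- **The image of the kernel on a standard chart.** -/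
theorem rg_kernel {V : X.Opens} {n : ℕ} {b : Fin n → Sec E V} (hb : IsLocBasis b) {k : Fin n} {D : P.Opens}
    {y : Fin n → Γ(P, D)} (hc : CoordOn q b k D y) (rs : List Γ(P, D))
    (hrs : ∀ x, x ∈ rs ↔ ∃ i : {i : Fin n // i ≠ k},
          (π.appLE V D hc.le).hom (vals u b k) * y i.1 - (π.appLE V D hc.le).hom (vals u b i.1) = x) :
    ImIdeal.rg (kernel.ι q ≫ pu u π) D = Ideal.ofList rs := by
  have hpb := (isLocBasis_pbS π hb).restrict hc.le
  let β : Fin n → Sec ((Scheme.Modules.pullback π).obj E) D := fun i => res _ hc.le (pbS π E (b i))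
  have hq : ∀ i, appS q D (β i) = y i • appS q D (β k) := by
    intro i
    have h1 := hc.eq i
    rw [appS_res, appS_res]
    exact h1.symm
  have hv : ∀ i, toO (appS (pu u π) D (β i)) = (π.appLE V D hc.le).hom (vals u b i) := fun i =>
    toO_pu_res u π (b i) hc.le
  apply le_antisymm
  · rintro _ ⟨t, rfl⟩
    rw [appS_comp]
    have h0 : appS q D (appS (kernel.ι q) D t) = 0 := by
      rw [← appS_comp, kernel.condition, appS_zero]
    obtain ⟨c, hc'⟩ := (hpb D le_rfl).2 (appS (kernel.ι q) D t)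
    rw [← hc'] at h0 ⊢
    have e1 : comb (fun i => res _ hc.le (pbS π E (b i))) (le_refl D) c = ∑ i, c i • β i := by
      rw [comb_apply]
      exact Finset.sum_congr rfl fun i _ => by rw [res_self]
    rw [e1] at h0 ⊢
    have h2 : (∑ i, c i * y i) • appS q D (β k) = 0 := by
      rw [← h0, map_sum, Finset.sum_smul]
      refine Finset.sum_congr rfl fun i _ => ?_
      rw [map_smul, hq i, mul_smul]
    have h3 : ∑ i, c i * y i = 0 := by
      have hg : IsGen (appS q D (β k)) := by
        rw [appS_res]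
        exact hc.gen
      exact hg.smul_injective (h2.trans (zero_smul _ _).symm)
    have h4 : toO (appS (pu u π) D (∑ i, c i • β i)) =
        ∑ i, c i * ((π.appLE V D hc.le).hom (vals u b i) - (π.appLE V D hc.le).hom (vals u b k) * y i) := by
      have e2 : toO (appS (pu u π) D (∑ i, c i • β i)) = ∑ i, c i * (π.appLE V D hc.le).hom (vals u b i) := by
        rw [map_sum]
        have h5 : ∀ w : Fin n → Sec (Coh.structureModule P) D, toO (∑ i, w i) = ∑ i, toO (w i) := fun w => rfl
        rw [h5]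
        refine Finset.sum_congr rfl fun i _ => ?_
        rw [map_smul, toO_smul, hv]
      rw [e2]
      simp only [mul_sub, Finset.sum_sub_distrib]
      have e3 : ∑ i, c i * ((π.appLE V D hc.le).hom (vals u b k) * y i) =
          (π.appLE V D hc.le).hom (vals u b k) * ∑ i, c i * y i := by
        rw [Finset.mul_sum]
        exact Finset.sum_congr rfl fun i _ => by ring
      rw [e3, h3, mul_zero, sub_zero]
    rw [h4]
    refine Ideal.sum_mem _ fun i _ => Ideal.mul_mem_left _ _ ?_
    by_cases hik : i = k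
    · subst hik
      rw [hc.self, mul_one, sub_self]
      exact Ideal.zero_mem _
    · rw [← neg_sub]
      exact neg_mem (Ideal.subset_span ((hrs _).2 ⟨⟨i, hik⟩, rfl⟩))
  · refine Ideal.span_le.2 ?_
    intro x hx
    obtain ⟨i, rfl⟩ := (hrs x).1 hx
    have h0 : appS q D (y i.1 • β k - β i.1) = 0 := by
      rw [map_sub, map_smul, hq i.1, sub_self]
    have hex : (ShortComplex.mk (kernel.ι q) q (kernel.condition q)).Exact :=
      ShortComplex.exact_of_f_is_kernel _ (kernelIsKernel q)
    obtain ⟨t, ht⟩ := exists_of_appS_eq_zero hex _ h0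
    refine ⟨t, ?_⟩
    have ht' : appS (kernel.ι q) D t = y i.1 • β k - β i.1 := ht
    rw [appS_comp, ht', map_sub, map_smul]
    have h5 : toO (y i.1 • appS (pu u π) D (β k) - appS (pu u π) D (β i.1)) =
        y i.1 * toO (appS (pu u π) D (β k)) - toO (appS (pu u π) D (β i.1)) := rfl
    rw [h5, hv, hv, mul_comm]

end Sections

section Rank

open Groth.Agent

/-- An epimorphism of finite locally free modules of the same rank at each point is an isomorphism. -/
theorem isIso_of_epi {M N : X.Modules} (φ : M ⟶ N) [Epi φ] (hM : FlatMod.IsFinLocFree M)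
    (hN : FlatMod.IsFinLocFree N) (h : ∀ x, Krr.H495.Rank.rk M x = Krr.H495.Rank.rk N x) : IsIso φ := by
  refine Groth.Agent.Sga67.FlatPre.isIso_of_stalkMap_bijective φ fun x => ?_
  have hs := (Groth.Agent.Ega1.FTStalkFin.epi_iff_stalkMap_surjective φ).1 inferInstance x
  obtain ⟨U, hxU, b, hb⟩ := Krr.H495.Rank.exists_isLocBasis hM x
  obtain ⟨V, hxV, c, hc⟩ := Krr.H495.Rank.exists_isLocBasis hN x
  obtain ⟨β, -⟩ := exists_stalkBasis hb x hxU
  obtain ⟨γ, -⟩ := exists_stalkBasis hc x hxV
  let e := β.equiv γ (finCongr (h x))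
  have hfin : Module.Finite (X.presheaf.stalk x) (M.presheaf.stalk x) := Module.Finite.of_basis β
  have h1 : Function.Surjective (e.symm.toLinearMap ∘ₗ
      Groth.Agent.Fdesc.Skyscraper.stalkMap φ x) := e.symm.surjective.comp hs
  have h2 := OrzechProperty.injective_of_surjective_endomorphism _ h1
  refine ⟨?_, hs⟩
  intro a b hab
  apply h2
  exact congrArg e.symm hab

/-- A Koszul-regular sequence of generators near `i x` gives a local basis of the conormal module. -/
theorem exists_locBasis_conormal {Z : Scheme.{u}} (i : Z ⟶ X) [IsClosedImmersion i] (x : Z) (U : X.affineOpens)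
    (hx : i x ∈ U.1) (l : List Γ(X, U.1)) (hl : LCI.IsKoszulRegularSeq Γ(X, U.1) l)
    (hk : RingHom.ker (i.app U.1).hom = Ideal.ofList l) :
    ∃ (W : Z.Opens) (b : Fin l.length → Sec (Omega.conormal i) W), x ∈ W ∧ IsLocBasis b := by
  obtain ⟨c, hc⟩ := Dual.H376.ChartExist.exists_kchart_of_seq (i := i) U.1 U.2 l hl (by
    rw [Scheme.Hom.ker_apply]
    exact hk)
  have hx' : i x ∈ c.U := by
    rw [hc]
    exact hx
  exact ⟨i ⁻¹ᵁ c.U, _, hx', Dual.H376.ChartExist.isLocBasis_bN c⟩

end Rank

section Conv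

/-- Away from the support an ideal sheaf is trivial. -/
theorem exists_affine_top {I : X.IdealSheafData} {x : X} (hx : x ∉ I.support) {O : X.Opens} (hO : x ∈ O) :
    ∃ U : X.affineOpens, x ∈ U.1 ∧ U.1 ≤ O ∧ I.ideal U = ⊤ := by
  obtain ⟨_, ⟨V, rfl⟩, hxV, hV⟩ := Opens.isBasis_iff_nbhd.mp (affineBasis X) hO
  rw [← Scheme.IdealSheafData.mem_supportSet_iff_mem_support,
    Scheme.IdealSheafData.mem_supportSet_iff_of_mem hxV, Scheme.mem_zeroLocus_iff] at hx
  push Not at hx
  obtain ⟨f, hf, hxf⟩ := hx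
  refine ⟨X.affineBasicOpen f, hxf, (X.basicOpen_le f).trans hV, ?_⟩
  rw [← I.map_ideal_basicOpen]
  exact Ideal.eq_top_of_isUnit_mem _ (Ideal.mem_map_of_mem _ hf) (RingedSpace.isUnit_res_basicOpen _ f)

/-- A cosection which is regular near the zero locus is Koszul-regular everywhere. -/
theorem koszul_of_regular {E : X.Modules} (hE : FlatMod.IsFinLocFree E) (u : E ⟶ Coh.structureModule X)
    (J : X.IdealSheafData) (hJ : ∀ U : X.affineOpens, J.ideal U = @Ideal.span Γ(X, U.1) _
      (Set.range fun s : E.val.obj (op U.1) => ((u.val.app (op U.1)).hom s : Γ(X, U.1))))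
    (hu : ∀ y : X, y ∈ J.support → ∃ U : X.affineOpens, y ∈ U.1 ∧
      ∃ (n : ℕ) (b : Module.Basis (Fin n) Γ(X, U.1) (E.val.obj (op U.1))),
        RegImm.Kind.Seq RegImm.Kind.regular Γ(X, U.1)
          (List.ofFn fun k => ((u.val.app (op U.1)).hom (b k) : Γ(X, U.1)))) (x : X) :
    ∃ U : X.affineOpens, x ∈ U.1 ∧
      ∃ (n : ℕ) (b : Module.Basis (Fin n) Γ(X, U.1) (E.val.obj (op U.1))),
        LCI.IsKoszulRegularSeq Γ(X, U.1)
          (List.ofFn fun k => ((u.val.app (op U.1)).hom (b k) : Γ(X, U.1))) := by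
  by_cases hx : x ∈ J.support
  · obtain ⟨U, hxU, n, b, h⟩ := hu x hx
    exact ⟨U, hxU, n, b, Groth.Agent.Flat2H.RegularLCI.isKoszulRegularSeq_of_isWeaklyRegular _ _
      (show RingTheory.Sequence.IsRegular _ _ from h).toIsWeaklyRegular⟩
  · obtain ⟨U₀, n, hxU₀, e, he⟩ := (isFinLocFree_iff _).mp hE x
    obtain ⟨U, hxU, hU, htop⟩ := exists_affine_top hx hxU₀
    have hb := he.restrict hU
    let B := hb.basis (le_refl U.1)
    refine ⟨U, hxU, n, B, Groth.Agent.Flat2H.KoszulSeq.isKoszulRegularSeq_of_ofList_eq_top ?_⟩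
    have hB : IsLocBasis (fun i => B i) := by
      have h1 : (fun i => B i) = fun i => res E hU (e i) := by
        funext i
        rw [IsLocBasis.basis_apply, res_self]
      rw [h1]
      exact hb
    have h1 : @Ideal.ofList Γ(X, U.1) _ (List.ofFn fun k => ((u.val.app (op U.1)).hom (B k) : Γ(X, U.1))) =
        Ideal.span (Set.range (vals u fun i => B i)) := by
      unfold Ideal.ofList
      congr 1
      ext a
      simp only [Set.mem_ofPred_eq, List.mem_ofFn, Set.mem_range]
      rfl
    exact h1.trans ((span_vals u hB).symm.trans ((hJ U).symm.trans htop))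

end Conv

section Main

variable (E : X.Modules) (hE : FlatMod.IsFinLocFree E) (u : E ⟶ Coh.structureModule X)
    (hu : ∀ x : X, ∃ U : X.affineOpens, x ∈ U.1 ∧
      ∃ (n : ℕ) (b : Module.Basis (Fin n) Γ(X, U.1) (E.val.obj (op U.1))),
        LCI.IsKoszulRegularSeq Γ(X, U.1) (List.ofFn fun k => ((u.val.app (op U.1)).hom (b k) : Γ(X, U.1))))
    (J : X.IdealSheafData) (hJ : ∀ U : X.affineOpens, J.ideal U = @Ideal.span Γ(X, U.1) _ (Set.range fun s : E.val.obj (op U.1) => ((u.val.app (op U.1)).hom s : Γ(X, U.1))))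
    (π : P ⟶ X) (O1 : P.Modules) (q : (Scheme.Modules.pullback π).obj E ⟶ O1) (hP : KRR.IsProjBundle π E O1 q)
    (f : X' ⟶ X) (hf : BlowUp.IsBlowUp f J)
    (j : X' ⟶ P) (hjπ : j ≫ π = f)
    (e : (Scheme.Modules.pullback j).obj O1 ≅ ClSub.idealMod (BlowUp.exceptional f J))
    (hcomp : (Scheme.Modules.pullbackCongr hjπ).inv.app E ≫ (Scheme.Modules.pullbackComp j π).inv.app E ≫
        (Scheme.Modules.pullback j).map q ≫ e.hom ≫ ClSub.idealModι (BlowUp.exceptional f J) =
      (Scheme.Modules.pullback f).map u ≫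
        ((Scheme.Modules.pullbackPushforwardAdjunction f).homEquiv _ _).symm
          (SheafOfModules.unitToPushforwardObjUnit f.toRingCatSheafHom))

include hE hu hJ hP hf hjπ hcomp

/-- **The ideal of the blow-up in the projective bundle** is the image of `ker q → π^* E → O_P`. -/
theorem ker_eq : ∀ U : P.affineOpens, j.ker.ideal U = ImIdeal.rg (kernel.ι q ≫ pu u π) U.1 := by
  have hO : FlatMod.IsFinLocFree O1 :=
    Groth.Agent.Ega2.QCohLocal.isFinLocFree_of_rank hP.invertible
  have hK : Coh.IsQCoh (kernel q) := Groth.Agent.PerfA.QCohSerre.isQCoh_kernel q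
    (Groth.Agent.Ega2.QCohLocal.isQCoh_of_isFinLocFree
      (Groth.Agent.PerfC.PullRestrict.isFinLocFree_pullback π hE))
    (Groth.Agent.Ega2.QCohLocal.isQCoh_of_isFinLocFree hO)
  have := K561.BlowBundle.isClosedImmersion E hE u hu J hJ π O1 q hP f hf j hjπ e hcomp
  have key : j.ker = ImIdeal.imIdeal hK (kernel.ι q ≫ pu u π) := by
    choose V n b k hb hKos hz h1 h2 h3 y hy rs h4 h5 h6 h7 using
      exists_local E hE u hu J hJ π O1 q hP f hf j hjπ e hcomp
    refine Scheme.IdealSheafData.ext_of_iSup_eq_top (fun z : P => ⟨genLocus (sg q (b z) (k z)), h1 z⟩) ?_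
      fun z => ?_
    · exact eq_top_iff.2 fun z _ => Opens.mem_iSup.2 ⟨z, hz z⟩
    · rw [Scheme.Hom.ker_apply, h6 z]
      exact (rg_kernel q (hb z) (hy z) (rs z) (h7 z)).symm
  intro U
  rw [key]
  rfl

/-- **The conormal module of the blow-up in the projective bundle.** -/
theorem nonempty_iso : Nonempty (Omega.conormal j ≅ kernel ((Scheme.Modules.pullback j).map q)) := by
  have hO : FlatMod.IsFinLocFree O1 := Groth.Agent.Ega2.QCohLocal.isFinLocFree_of_rank hP.invertible
  have hE' := Groth.Agent.PerfC.PullRestrict.isFinLocFree_pullback π hE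
  have := K561.BlowBundle.isClosedImmersion E hE u hu J hJ π O1 q hP f hf j hjπ e hcomp
  have hepi : Epi q := hP.epi
  obtain ⟨l, hl, -⟩ := ImIdeal.exists_factor (kernel.ι q ≫ pu u π) j.ker
    (ker_eq E hE u hu J hJ π O1 q hP f hf j hjπ e hcomp)
  have h1 : Epi ((Scheme.Modules.pullback j).map l) := inferInstance
  let l' : (Scheme.Modules.pullback j).obj (kernel q) ⟶ Omega.conormal j := (Scheme.Modules.pullback j).map l
  have hl' : Epi l' := h1
  have hS : (ShortComplex.mk (kernel.ι q) q (kernel.condition q)).ShortExact :=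
    { exact := ShortComplex.exact_of_f_is_kernel _ (kernelIsKernel q)
      mono_f := inferInstanceAs (Mono (kernel.ι q))
      epi_g := hepi }
  have hS' := Groth.Agent.Krr.H496.PullK0.shortExact_pullback_of_isFinLocFree j hS hO
  have hKf : FlatMod.IsFinLocFree (kernel q) := Groth.Agent.Dcoh.Spread.isFinLocFree_kernel q hE' hO
  have hjK := Groth.Agent.PerfC.PullRestrict.isFinLocFree_pullback j hKf
  have hjO := Groth.Agent.PerfC.PullRestrict.isFinLocFree_pullback j hO
  let e1 : (Scheme.Modules.pullback j).obj (kernel q) ≅ kernel ((Scheme.Modules.pullback j).map q) :=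
    hS'.fIsKernel.conePointUniqueUpToIso (limit.isLimit _)
  have hloc : ∀ x : X', ∃ (n : ℕ) (W : X'.Opens) (b : Fin (n - 1) → Sec (Omega.conormal j) W), x ∈ W ∧
      IsLocBasis b ∧ 1 ≤ n ∧ Groth.Agent.Krr.H495.Rank.rk
        ((Scheme.Modules.pullback j).obj ((Scheme.Modules.pullback π).obj E)) x = n := by
    intro x
    obtain ⟨V, n, b, k, hb, hKos, hz, h1, h2, h3, y, hy, rs, h4, h5, h6, -⟩ :=
      exists_local E hE u hu J hJ π O1 q hP f hf j hjπ e hcomp (j x)
    obtain ⟨W, c, hxW, hc⟩ := exists_locBasis_conormal j x ⟨_, h1⟩ hz rs h5 h6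
    refine ⟨n, W, _, hxW, hc.reindex (finCongr h4.symm), ?_, ?_⟩
    · have := k.2
      omega
    · have hx : x ∈ j ⁻¹ᵁ (π ⁻¹ᵁ V.1) := (genLocus_le _ : _ ≤ π ⁻¹ᵁ V.1) hz
      rw [Groth.Agent.Krr.H495.Rank.rk_eq_of_isLocBasis (isLocBasis_pbS j (isLocBasis_pbS π hb)) hx,
        Fintype.card_fin]
  have hcf : FlatMod.IsFinLocFree (Omega.conormal j) := by
    rw [isFinLocFree_iff]
    intro x
    obtain ⟨n, W, b, hx, hb, -⟩ := hloc x
    exact ⟨W, n - 1, hx, b, hb⟩
  have hiso : IsIso l' := by
    refine isIso_of_epi l' hjK hcf fun x => ?_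
    obtain ⟨n, W, b, hx, hb, hn, hrk⟩ := hloc x
    have h5 := Groth.Agent.Krr.H495.Rank.rk_shortExact hS' hjK hjO x
    have h6 : Groth.Agent.Krr.H495.Rank.rk ((Scheme.Modules.pullback j).obj O1) x = 1 :=
      Groth.Agent.Krr.H495.Rank.rk_of_rank
        (Groth.Agent.PerfB.FibreConc.isFinLocFreeOfRank_pullback j hP.invertible) x
    rw [Groth.Agent.Krr.H495.Rank.rk_eq_of_isLocBasis hb hx, Fintype.card_fin]
    change Groth.Agent.Krr.H495.Rank.rk
        ((Scheme.Modules.pullback j).obj ((Scheme.Modules.pullback π).obj E)) x =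
      Groth.Agent.Krr.H495.Rank.rk ((Scheme.Modules.pullback j).obj (kernel q)) x +
      Groth.Agent.Krr.H495.Rank.rk ((Scheme.Modules.pullback j).obj O1) x at h5
    omega
  exact ⟨(asIso l').symm ≪≫ e1⟩

end Main

end K935.BlowConormal
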