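import Groth.Agent.S2795

/-!
# The de Rham differential on the exterior algebra of differentials
-/

set_option autoImplicit false
universe u v

namespace K935.DeRhamD

open Groth.Agent.S2795 Groth.Agent.S2795.Tw

variable (R A : Type u) [CommRing R] [CommRing A] [Algebra R A]

theorem ι_mem (m : KaehlerDifferential R A) :
    ExteriorAlgebra.ι A m ∈ ExteriorAlgebra.exteriorPower A 1 (KaehlerDifferential R A) := by
  rw [ExteriorAlgebra.exteriorPower, pow_one]
  exact LinearMap.mem_range_self _ m

theorem mul_mem {p q : ℕ} {x y : ExteriorAlgebra A (KaehlerDifferential R A)}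
    (hx : x ∈ ExteriorAlgebra.exteriorPower A p (KaehlerDifferential R A))
    (hy : y ∈ ExteriorAlgebra.exteriorPower A q (KaehlerDifferential R A)) :
    x * y ∈ ExteriorAlgebra.exteriorPower A (p + q) (KaehlerDifferential R A) := by
  rw [ExteriorAlgebra.exteriorPower, pow_add]
  exact Submodule.mul_mem_mul hx hy

theorem d_ι_mem (m : KaehlerDifferential R A) :
    Tw.d (ExteriorAlgebra.ι A m) ∈ ExteriorAlgebra.exteriorPower A 2 (KaehlerDifferential R A) := by
  induction m using Tw.span_induction with
  | hD b => rw [Tw.d_ι_D]; exact zero_mem _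
  | hadd x y hx hy => rw [map_add, map_add]; exact add_mem hx hy
  | hsmul b x hx =>
    rw [map_smul, Tw.d_smul]
    exact add_mem (Submodule.smul_mem _ _ hx) (mul_mem R A (ι_mem R A _) (ι_mem R A _))

theorem d_mem (p : ℕ) (x : ExteriorAlgebra A (KaehlerDifferential R A))
    (hx : x ∈ ExteriorAlgebra.exteriorPower A p (KaehlerDifferential R A)) :
    Tw.d x ∈ ExteriorAlgebra.exteriorPower A (p + 1) (KaehlerDifferential R A) := by
  induction hx using Submodule.pow_induction_on_left' with
  | algebraMap r => rw [Tw.d_algebraMap]; exact ι_mem R A _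
  | add x y i _ _ ihx ihy => rw [map_add]; exact add_mem ihx ihy
  | mem_mul m hm i x hx ih =>
    obtain ⟨m, rfl⟩ := hm
    rw [Tw.d_mul, sg_ι]
    have h1 : (- ExteriorAlgebra.ι A m) * Tw.d x ∈
        ExteriorAlgebra.exteriorPower A (1 + (i + 1)) (KaehlerDifferential R A) :=
      mul_mem R A (neg_mem (ι_mem R A m)) ih
    have h2 : Tw.d (ExteriorAlgebra.ι A m) * x ∈
        ExteriorAlgebra.exteriorPower A (2 + i) (KaehlerDifferential R A) :=
      mul_mem R A (d_ι_mem R A m) hx
    have e1 : 1 + (i + 1) = i.succ + 1 := by omega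
    have e2 : 2 + i = i.succ + 1 := by omega
    rw [e1] at h1
    rw [e2] at h2
    exact add_mem h1 h2

/-- The de Rham differential as an `R`-linear map. -/
noncomputable def dR : ExteriorAlgebra A (KaehlerDifferential R A) →ₗ[R]
    ExteriorAlgebra A (KaehlerDifferential R A) :=
  { Tw.d (A := R) (B := A) with
    map_smul' := fun r x => by
      change Tw.d (r • x) = r • Tw.d x
      rw [← algebraMap_smul A r x, Tw.d_smul, Derivation.map_algebraMap, map_zero, zero_mul, add_zero,
        algebraMap_smul] }

theorem dR_apply (x : ExteriorAlgebra A (KaehlerDifferential R A)) : dR R A x = Tw.d x := rfl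

theorem dR_mul (p : ℕ) (x y : ExteriorAlgebra A (KaehlerDifferential R A))
    (hx : x ∈ ExteriorAlgebra.exteriorPower A p (KaehlerDifferential R A)) :
    dR R A (x * y) = dR R A x * y + (-1) ^ p * x * dR R A y := by
  rw [dR_apply, Tw.d_mul, sg_of_mem p x hx, add_comm]
  congr 1
  rw [zsmul_eq_mul]
  push_cast
  rfl

end K935.DeRhamD
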