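import Groth.Agent.Dual.H366.WedgeIso

/-!
# The determinant of a short exact sequence

* `K935.DetSES.nonempty_iso`: for a short exact sequence `0 → X₁ → X₂ → X₃ → 0` of modules of ranks `a`, `n = r + a`,
  `r`: `Λ^r X₃ ⊗ Λ^a X₁ ≅ Λ^n X₂`.
-/

set_option autoImplicit false
universe u

open CategoryTheory CategoryTheory.Limits AlgebraicGeometry Opposite TopologicalSpace
open scoped TensorProduct
open Groth.Agent Groth.Agent.Sga67.Sec Groth.Agent.Sga67.ExtSheaf Groth.Agent.Sga67.LocBasis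
open Groth.Agent.Dual.H366 Groth.Agent.Dual.H366.WedgeIso

namespace K935.DetSES

variable {X : Scheme.{u}}

/-- Reordering a local basis. -/
theorem isLocBasis_append {M : X.Modules} {U : X.Opens} {a r n : ℕ} (h : r + a = n) (x : Fin r → Sec M U)
    (y : Fin a → Sec M U) (hxy : IsLocBasis (Sum.elim y x)) : IsLocBasis (Fin.append x y ∘ Fin.cast h.symm) := by
  let E : Fin n ≃ Fin a ⊕ Fin r :=
    (finCongr h.symm).trans (finSumFinEquiv.symm.trans (Equiv.sumComm _ _))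
  have h1 := hxy.reindex E
  have h2 : (fun j => Sum.elim y x (E j)) = Fin.append x y ∘ Fin.cast h.symm := by
    subst h
    funext j
    simp only [Function.comp_apply, Fin.cast_eq_self, E, Equiv.trans_apply, finCongr_apply]
    induction j using Fin.addCases with
    | left i => simp
    | right i => simp
  rwa [h2] at h1

variable (S : ShortComplex X.Modules)

/-- Good affine opens: bases of `X₁`, `X₃` and lifts to `X₂`. -/
structure Good (a r : ℕ) where
  V : X.affineOpens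
  b : Fin a → Sec S.X₁ V.1
  hb : IsLocBasis b
  c : Fin r → Sec S.X₃ V.1
  hc : IsLocBasis c
  c' : Fin r → Sec S.X₂ V.1
  hc' : ∀ j, appS S.g V.1 (c' j) = c j

variable {S} {a r n : ℕ}

theorem exists_good (hS : S.ShortExact) (h1 : FlatMod.IsFinLocFreeOfRank a S.X₁)
    (h3 : FlatMod.IsFinLocFreeOfRank r S.X₃) (x : X) (O : X.Opens) (hx : x ∈ O) :
    ∃ g : Good S a r, x ∈ g.V.1 ∧ g.V.1 ≤ O := by
  have := hS.epi_g
  obtain ⟨U, hxU, hU⟩ := h1 x
  obtain ⟨b, hb⟩ := nonempty_restrict_iso_iff.mp hU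
  obtain ⟨V, hxV, hV⟩ := h3 x
  obtain ⟨c, hc⟩ := nonempty_restrict_iso_iff.mp hV
  obtain ⟨W, hWV, hxW, c', hc'⟩ := exists_lifts S.g c hxV
  obtain ⟨_, ⟨W', rfl⟩, hxW', hW'⟩ := Opens.isBasis_iff_nbhd.mp (affineBasis X)
    (show x ∈ O ⊓ U ⊓ W from ⟨⟨hx, hxU⟩, hxW⟩)
  have l1 : W'.1 ≤ U := hW'.trans (inf_le_left.trans inf_le_right)
  have l2 : W'.1 ≤ W := hW'.trans inf_le_right
  refine ⟨⟨W', _, hb.restrict l1, _, hc.restrict (l2.trans hWV), fun j => res _ l2 (c' j), fun j => ?_⟩, hxW',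
    hW'.trans (inf_le_left.trans inf_le_left)⟩
  rw [appS_res, hc', res_res]

theorem isBasis_good (hS : S.ShortExact) (h1 : FlatMod.IsFinLocFreeOfRank a S.X₁)
    (h3 : FlatMod.IsFinLocFreeOfRank r S.X₃) :
    Opens.IsBasis (Set.range fun g : Good S a r => g.V.1) := by
  rw [Opens.isBasis_iff_nbhd]
  intro O x hx
  obtain ⟨g, hg, hgO⟩ := exists_good hS h1 h3 x O hx
  exact ⟨_, ⟨g, rfl⟩, hg, hgO⟩

/-- The data for the wedge morphism. -/
noncomputable def dat (hS : S.ShortExact) (h : r + a = n) :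
    Dat (ι := Good S a r) Good.V a n S.f S.g where
  surj g s := by
    obtain ⟨t, rfl⟩ := (g.hc g.V.1 le_rfl).2 s
    refine ⟨comb g.c' le_rfl t, ?_⟩
    rw [appS_comb]
    simp only [g.hc']
  comp g s := by rw [← appS_comp, S.zero, appS_zero]
  ex g s hs := by
    have := hS.mono_f
    obtain ⟨t, ht⟩ := exists_of_appS_eq_zero hS.exact s hs
    exact ⟨t, ht⟩
  c g := g.b
  hc g := g.hb
  e g := Fin.append g.c' (appS S.f g.V.1 ∘ g.b) ∘ Fin.cast h.symm
  he g := isLocBasis_append h _ _ (isLocBasis_extension hS g.hb g.hc g.c' g.hc')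

/-- **The determinant of a short exact sequence.** -/
theorem nonempty_iso (hS : S.ShortExact) (h : r + a = n) (h1 : FlatMod.IsFinLocFreeOfRank a S.X₁)
    (h3 : FlatMod.IsFinLocFreeOfRank r S.X₃) {L₁ L₂ L₃ : X.Modules} (hL₁ : ExtPow.IsExtPow a S.X₁ L₁)
    (hL₂ : ExtPow.IsExtPow n S.X₂ L₂) (hL₃ : ExtPow.IsExtPow r S.X₃ L₃) :
    Nonempty (CohB1.tensorMod L₃ L₁ ≅ L₂) := by
  have hB := isBasis_good hS h1 h3
  obtain ⟨φW, hφW⟩ := exists_phi hL₃
  obtain ⟨φC, hφC⟩ := exists_phi hL₁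
  obtain ⟨ψ, hψ⟩ := exists_phi hL₂
  obtain ⟨g, hg⟩ := WedgeSheaf.exists_wdg hB (dat hS h).isWedgeDatum h φW hφW φC hφC ψ hψ
  have hiso : IsIso g := by
    refine isIso_of_bijective g fun x U hxU => ?_
    obtain ⟨k, hk, -⟩ := exists_good hS h1 h3 x ⊤ trivial
    have hdet : cdet (dat hS h) h k k.c' = 1 := by
      have h5 : fam (dat hS h) h k k.c' = ((dat hS h).he k).basis le_rfl := by
        funext j
        rw [IsLocBasis.basis_apply, res_self]
        rfl
      rw [cdet, h5, Module.Basis.det_self]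
    obtain ⟨V, hV, hxV, hb⟩ := bijective_wdg hB (dat hS h) h φW hφW φC hφC ψ hψ g hg k x hk k.c'
      (by rw [hdet, map_one]; exact one_ne_zero)
    exact ⟨U ⊓ V, inf_le_left, ⟨hxU, hxV⟩, hb _ inf_le_right⟩
  exact ⟨asIso g⟩

end K935.DetSES
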