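import Groth.Agent.Omega.K935.DeRhamD
import Mathlib.LinearAlgebra.CliffordAlgebra.Contraction
import Mathlib.RingTheory.Kaehler.Polynomial
import Mathlib.LinearAlgebra.Eigenspace.Basic
import Mathlib.LinearAlgebra.ExteriorAlgebra.Basic

/-!
# The algebraic Poincaré lemma for polynomial rings in characteristic zero
-/

set_option autoImplicit false
universe u v

namespace K935.Poincare

open Groth.Agent.S2795 Groth.Agent.S2795.Tw K935.DeRhamD MvPolynomial

section contraction

variable {B : Type u} [CommRing B] {M : Type u} [AddCommGroup M] [Module B M] (φ : Module.Dual B M)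

/-- Contraction with a linear form on the exterior algebra. -/
noncomputable def con : ExteriorAlgebra B M →ₗ[B] ExteriorAlgebra B M :=
  CliffordAlgebra.contractLeft φ

theorem con_ι_mul (a : M) (b : ExteriorAlgebra B M) :
    con φ (ExteriorAlgebra.ι B a * b) = φ a • b - ExteriorAlgebra.ι B a * con φ b :=
  CliffordAlgebra.contractLeft_ι_mul φ a b

theorem con_algebraMap (r : B) : con φ (algebraMap B _ r) = 0 :=
  CliffordAlgebra.contractLeft_algebraMap _ φ r

theorem con_ι (a : M) : con φ (ExteriorAlgebra.ι B a) = algebraMap B _ (φ a) :=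
  CliffordAlgebra.contractLeft_ι _ φ a

theorem con_mul (x y : ExteriorAlgebra B M) :
    con φ (x * y) = con φ x * y + sg x * con φ y := by
  induction x using CliffordAlgebra.left_induction with
  | algebraMap r =>
    change con φ (algebraMap B _ r * y) = con φ (algebraMap B _ r) * y + sg (algebraMap B _ r) * con φ y
    rw [con_algebraMap, zero_mul, zero_add, AlgHom.commutes, ← Algebra.smul_def, map_smul,
      Algebra.smul_def]
  | add x x' hx hx' => rw [add_mul, map_add, hx, hx', map_add, map_add]; noncomm_ring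
  | ι_mul x m hx =>
    change con φ ((ExteriorAlgebra.ι B m * x) * y) = con φ (ExteriorAlgebra.ι B m * x) * y +
      sg (ExteriorAlgebra.ι B m * x) * con φ y
    rw [mul_assoc, con_ι_mul, hx, con_ι_mul, map_mul, sg_ι, sub_mul, smul_mul_assoc]
    noncomm_ring

theorem con_sg (x : ExteriorAlgebra B M) : con φ (sg x) = - sg (con φ x) := by
  induction x using CliffordAlgebra.left_induction with
  | algebraMap r =>
    change con φ (sg (algebraMap B _ r)) = - sg (con φ (algebraMap B _ r))
    rw [AlgHom.commutes, con_algebraMap, map_zero, neg_zero]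
  | add x x' hx hx' => rw [map_add, map_add, hx, hx', map_add, map_add, neg_add]
  | ι_mul x m hx =>
    change con φ (sg (ExteriorAlgebra.ι B m * x)) = - sg (con φ (ExteriorAlgebra.ι B m * x))
    rw [map_mul, sg_ι, neg_mul, map_neg, con_ι_mul, hx, con_ι_mul, map_sub, map_smul, map_mul, sg_ι]
    noncomm_ring

theorem con_mem (p : ℕ) (x : ExteriorAlgebra B M)
    (hx : x ∈ ExteriorAlgebra.exteriorPower B (p + 1) M) :
    con φ x ∈ ExteriorAlgebra.exteriorPower B p M := by
  have key : ∀ (q : ℕ) (x : ExteriorAlgebra B M), x ∈ ExteriorAlgebra.exteriorPower B q M →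
      con φ x ∈ ExteriorAlgebra.exteriorPower B (q - 1) M := by
    intro q x hx
    induction hx using Submodule.pow_induction_on_left' with
    | algebraMap r => rw [con_algebraMap]; exact zero_mem _
    | add x y i _ _ ihx ihy => rw [map_add]; exact add_mem ihx ihy
    | mem_mul m hm i x hx ih =>
      obtain ⟨m, rfl⟩ := hm
      rw [con_ι_mul]
      refine sub_mem (Submodule.smul_mem _ _ hx) ?_
      rcases i with _ | i
      · have hx' : ∃ r, algebraMap B _ r = x := by
          have hx0 : x ∈ (LinearMap.range (ExteriorAlgebra.ι B (M := M))) ^ 0 := hx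
          rw [pow_zero] at hx0
          exact Submodule.mem_one.mp hx0
        obtain ⟨r, rfl⟩ := hx'
        rw [con_algebraMap, mul_zero]
        exact zero_mem _
      · simp only [Nat.succ_eq_add_one, Nat.add_sub_cancel] at ih ⊢
        change _ ∈ (LinearMap.range (ExteriorAlgebra.ι B (M := M))) ^ (i + 1)
        rw [pow_succ']
        exact Submodule.mul_mem_mul (LinearMap.mem_range_self _ m) ih
  exact key (p + 1) x hx

end contraction

variable (k : Type u) [Field k] (n : ℕ)

/-- The polynomial ring. -/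
abbrev A : Type u := MvPolynomial (Fin n) k

/-- Its module of differentials. -/
abbrev Om : Type u := KaehlerDifferential k (A k n)

/-- The exterior algebra. -/
abbrev Ext : Type u := ExteriorAlgebra (A k n) (Om k n)

/-- The Euler derivation. -/
noncomputable def euler : Derivation k (A k n) (A k n) :=
  MvPolynomial.mkDerivation k (fun i => X i)

/-- The linear form on differentials given by the Euler derivation. -/
noncomputable def φ : Module.Dual (A k n) (Om k n) := (euler k n).liftKaehlerDifferential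

theorem φ_D (a : A k n) : φ k n (KaehlerDifferential.D k (A k n) a) = euler k n a :=
  Derivation.liftKaehlerDifferential_comp_D _ _

theorem φ_D_X (i : Fin n) : φ k n (KaehlerDifferential.D k (A k n) (X i)) = X i := by
  rw [φ_D, euler, MvPolynomial.mkDerivation_X]

/-- The Lie derivative along the Euler field. -/
noncomputable def lie : Ext k n →ₗ[k] Ext k n :=
  (dR k (A k n)) ∘ₗ ((con (φ k n)).restrictScalars k) +
    ((con (φ k n)).restrictScalars k) ∘ₗ (dR k (A k n))

theorem lie_apply (x : Ext k n) : lie k n x = Tw.d (con (φ k n) x) + con (φ k n) (Tw.d x) := rfl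

theorem lie_mul (x y : Ext k n) : lie k n (x * y) = lie k n x * y + x * lie k n y := by
  simp only [lie_apply]
  rw [con_mul, map_add, Tw.d_mul, Tw.d_mul, Tw.d_mul, map_add, con_mul, con_mul, sg_sg, d_sg,
    con_sg]
  noncomm_ring

theorem lie_d (x : Ext k n) : lie k n (Tw.d x) = Tw.d (lie k n x) := by
  simp only [lie_apply]
  rw [d_d, map_zero, add_zero, map_add, d_d, zero_add]

theorem lie_D_X (i : Fin n) :
    lie k n (ExteriorAlgebra.ι (A k n) (KaehlerDifferential.D k (A k n) (X i))) =
      ExteriorAlgebra.ι (A k n) (KaehlerDifferential.D k (A k n) (X i)) := by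
  rw [lie_apply, con_ι, φ_D_X, d_algebraMap, d_ι_D, map_zero, add_zero]

theorem lie_X (i : Fin n) :
    lie k n (algebraMap (A k n) (Ext k n) (X i)) = algebraMap (A k n) (Ext k n) (X i) := by
  rw [lie_apply, con_algebraMap, map_zero, zero_add, d_algebraMap, con_ι, φ_D_X]

theorem lie_C (c : k) : lie k n (algebraMap (A k n) (Ext k n) (C c)) = 0 := by
  rw [lie_apply, con_algebraMap, map_zero, zero_add, d_algebraMap, con_ι, φ_D]
  have : euler k n (C c) = 0 := Derivation.map_algebraMap (euler k n) c
  rw [this, map_zero]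

/-- The exterior power over `k`. -/
noncomputable abbrev Pw (p : ℕ) : Submodule k (Ext k n) :=
  (ExteriorAlgebra.exteriorPower (A k n) p (Om k n)).restrictScalars k

/-- The eigenspace of weight `m`. -/
noncomputable abbrev Eg (m : ℕ) : Submodule k (Ext k n) := Module.End.eigenspace (lie k n) (m : k)

theorem mem_Eg (m : ℕ) (x : Ext k n) : x ∈ Eg k n m ↔ lie k n x = (m : k) • x :=
  Module.End.mem_eigenspace_iff

/-- Multiplication by a weight one element. -/
theorem mul_mem_Eg {m : ℕ} {x y : Ext k n} (hx : lie k n x = x) (hy : y ∈ Eg k n m) :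
    x * y ∈ Eg k n (m + 1) := by
  rw [mem_Eg] at hy ⊢
  rw [lie_mul, hx, hy, mul_smul_comm]
  push_cast
  rw [add_smul, one_smul, add_comm]

/-- The sum of the weight spaces of weight at least `p` in degree `p`. -/
noncomputable def Sp (p : ℕ) : Submodule k (Ext k n) := ⨆ m : ℕ, Eg k n (p + m) ⊓ Pw k n p

theorem mul_mem_Sp (p : ℕ) (i : Fin n) {y : Ext k n} (hy : y ∈ Sp k n p) :
    ExteriorAlgebra.ι (A k n) (KaehlerDifferential.D k (A k n) (X i)) * y ∈ Sp k n (p + 1) := by
  induction hy using Submodule.iSup_induction' with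
  | mem m y hy =>
    refine Submodule.mem_iSup_of_mem m ⟨?_, ?_⟩
    · have := mul_mem_Eg k n (lie_D_X k n i) hy.1
      rwa [show p + m + 1 = p + 1 + m by omega] at this
    · have h := DeRhamD.mul_mem k (A k n) (ι_mem k (A k n) (KaehlerDifferential.D k (A k n) (X i))) hy.2
      rwa [add_comm 1 p] at h
  | zero => rw [mul_zero]; exact zero_mem _
  | add x y _ _ hx hy => rw [mul_add]; exact add_mem hx hy

theorem X_mul_mem_Sp (i : Fin n) (p : ℕ) {y : Ext k n} (hy : y ∈ Sp k n p) :
    algebraMap (A k n) (Ext k n) (X i) * y ∈ ⨆ m : ℕ, Eg k n (p + m + 1) ⊓ Pw k n p := by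
  induction hy using Submodule.iSup_induction' with
  | mem m y hy =>
    refine Submodule.mem_iSup_of_mem m ⟨mul_mem_Eg k n (lie_X k n i) hy.1, ?_⟩
    change _ ∈ ExteriorAlgebra.exteriorPower (A k n) p (Om k n)
    rw [← Algebra.smul_def]
    exact Submodule.smul_mem _ _ hy.2
  | zero => rw [mul_zero]; exact zero_mem _
  | add x y _ _ hx hy => rw [mul_add]; exact add_mem hx hy

theorem le_Sp (p : ℕ) : (⨆ m : ℕ, Eg k n (p + m + 1) ⊓ Pw k n p) ≤ Sp k n p :=
  iSup_le fun m => le_iSup (fun m => Eg k n (p + m) ⊓ Pw k n p) (m + 1)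

theorem algebraMap_mul_mem_Sp (a : A k n) (p : ℕ) {y : Ext k n} (hy : y ∈ Sp k n p) :
    algebraMap (A k n) (Ext k n) a * y ∈ Sp k n p := by
  induction a using MvPolynomial.induction_on with
  | C c =>
    have h1 : algebraMap (A k n) (Ext k n) (C c) * y = c • y := by
      rw [← Algebra.smul_def]
      exact algebraMap_smul (A k n) c y
    rw [h1]
    exact Submodule.smul_mem _ _ hy
  | add a b ha hb => rw [map_add, add_mul]; exact add_mem ha hb
  | mul_X a i ha =>
    rw [map_mul, ← Algebra.commutes, mul_assoc]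
    exact le_Sp k n p (X_mul_mem_Sp k n i p ha)

theorem algebraMap_mem_Sp (a : A k n) : algebraMap (A k n) (Ext k n) a ∈ Sp k n 0 := by
  have h1 : (1 : Ext k n) ∈ Sp k n 0 := by
    refine Submodule.mem_iSup_of_mem 0 ⟨?_, ?_⟩
    · change (1 : Ext k n) ∈ Eg k n 0
      rw [mem_Eg]
      have := lie_C k n 1
      rw [map_one, map_one] at this
      rw [this]; simp
    · change _ ∈ ExteriorAlgebra.exteriorPower (A k n) 0 (Om k n)
      rw [ExteriorAlgebra.exteriorPower, pow_zero]
      exact Submodule.mem_one.mpr ⟨1, map_one _⟩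
  simpa using algebraMap_mul_mem_Sp k n a 0 h1

/-- The weight decomposition. -/
theorem mem_Sp (p : ℕ) (x : Ext k n)
    (hx : x ∈ ExteriorAlgebra.exteriorPower (A k n) p (Om k n)) : x ∈ Sp k n p := by
  induction hx using Submodule.pow_induction_on_left' with
  | algebraMap r => exact algebraMap_mem_Sp k n r
  | add x y i _ _ ihx ihy => exact add_mem ihx ihy
  | mem_mul m hm i x hx ih =>
    obtain ⟨m, rfl⟩ := hm
    have hm : m ∈ Submodule.span (A k n)
        (Set.range (KaehlerDifferential.mvPolynomialBasis k (Fin n))) := by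
      rw [Module.Basis.span_eq]; trivial
    induction hm using Submodule.span_induction with
    | mem m hm =>
      obtain ⟨j, rfl⟩ := hm
      rw [KaehlerDifferential.mvPolynomialBasis_apply]
      exact mul_mem_Sp k n i j ih
    | zero => rw [map_zero, zero_mul]; exact zero_mem _
    | add a b _ _ ha hb => rw [map_add, add_mul]; exact add_mem ha hb
    | smul c a _ ha =>
      rw [map_smul, smul_mul_assoc, Algebra.smul_def]
      exact algebraMap_mul_mem_Sp k n c _ ha


/-- No kernel in positive weights. -/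
theorem eq_zero_of_lie [CharZero k] (x : Ext k n) (hx : x ∈ ⨆ m : ℕ, Eg k n (m + 1)) (h : lie k n x = 0) :
    x = 0 := by
  have h0 : x ∈ Module.End.eigenspace (lie k n) 0 := by
    rw [Module.End.mem_eigenspace_iff, h, zero_smul]
  have hind := Module.End.eigenspaces_iSupIndep (lie k n)
  have hd := hind 0
  rw [Submodule.disjoint_def] at hd
  refine hd x h0 ?_
  refine (iSup_le fun m => ?_ : (⨆ m : ℕ, Eg k n (m + 1)) ≤ _) hx
  have hne : ((m + 1 : ℕ) : k) ≠ 0 := Nat.cast_ne_zero.mpr (Nat.succ_ne_zero m)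
  exact le_iSup₂_of_le ((m + 1 : ℕ) : k) hne le_rfl

/-- The Lie derivative is onto in positive degrees. -/
theorem exists_lie_eq [CharZero k] (p : ℕ) (x : Ext k n)
    (hx : x ∈ ExteriorAlgebra.exteriorPower (A k n) (p + 1) (Om k n)) :
    ∃ y ∈ ExteriorAlgebra.exteriorPower (A k n) (p + 1) (Om k n), lie k n y = x := by
  have h := mem_Sp k n (p + 1) x hx
  clear hx
  induction h using Submodule.iSup_induction' with
  | mem m x hx =>
    have h1 := (mem_Eg k n _ x).mp hx.1
    have hne : ((p + 1 + m : ℕ) : k) ≠ 0 := Nat.cast_ne_zero.mpr (by omega)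
    refine ⟨((p + 1 + m : ℕ) : k)⁻¹ • x, ?_, ?_⟩
    · have h2 : x ∈ ExteriorAlgebra.exteriorPower (A k n) (p + 1) (Om k n) := hx.2
      exact ((ExteriorAlgebra.exteriorPower (A k n) (p + 1) (Om k n)).restrictScalars k).smul_mem _ h2
    · rw [map_smul, h1, smul_smul, inv_mul_cancel₀ hne, one_smul]
  | zero => exact ⟨0, zero_mem _, map_zero _⟩
  | add x y _ _ hx hy =>
    obtain ⟨a, ha, rfl⟩ := hx
    obtain ⟨b, hb, rfl⟩ := hy
    exact ⟨a + b, add_mem ha hb, map_add _ _ _⟩

theorem eq_zero_of_lie_of_mem [CharZero k] (p : ℕ) (x : Ext k n)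
    (hx : x ∈ ExteriorAlgebra.exteriorPower (A k n) (p + 1) (Om k n)) (h : lie k n x = 0) :
    x = 0 := by
  refine eq_zero_of_lie k n x ?_ h
  refine (iSup_le fun m => ?_ : Sp k n (p + 1) ≤ _) (mem_Sp k n (p + 1) x hx)
  refine inf_le_left.trans ?_
  have : p + 1 + m = (p + m) + 1 := by omega
  rw [this]
  exact le_iSup (fun m => Eg k n (m + 1)) (p + m)

theorem exact [CharZero k] (p : ℕ) (x : Ext k n)
    (hx : x ∈ ExteriorAlgebra.exteriorPower (A k n) (p + 1) (Om k n)) (h : Tw.d x = 0) :
    ∃ y ∈ ExteriorAlgebra.exteriorPower (A k n) p (Om k n), Tw.d y = x := by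
  obtain ⟨z, hz, rfl⟩ := exists_lie_eq k n p x hx
  rw [← lie_d] at h
  have h1 : Tw.d z = 0 := eq_zero_of_lie_of_mem k n (p + 1) _ (d_mem k (A k n) (p + 1) z hz) h
  refine ⟨con (φ k n) z, con_mem _ p z hz, ?_⟩
  rw [lie_apply, h1, map_zero, add_zero]

theorem exists_const (a : A k n) :
    ∃ c : k, algebraMap (A k n) (Ext k n) (a - C c) ∈ ⨆ m : ℕ, Eg k n (m + 1) := by
  induction a using MvPolynomial.induction_on with
  | C c => exact ⟨c, by rw [sub_self, map_zero]; exact zero_mem _⟩
  | add a b ha hb =>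
    obtain ⟨c, hc⟩ := ha
    obtain ⟨d, hd⟩ := hb
    refine ⟨c + d, ?_⟩
    rw [C_add, add_sub_add_comm, map_add]
    exact add_mem hc hd
  | mul_X a i _ =>
    refine ⟨0, ?_⟩
    rw [C_0, sub_zero, map_mul, ← Algebra.commutes]
    refine (iSup_le fun m => ?_ : (⨆ m : ℕ, Eg k n (0 + m + 1) ⊓ Pw k n 0) ≤ _)
      (X_mul_mem_Sp k n i 0 (algebraMap_mem_Sp k n a))
    refine inf_le_left.trans ?_
    rw [zero_add]
    exact le_iSup (fun m => Eg k n (m + 1)) m

theorem const_of_d_eq_zero [CharZero k] (a : A k n)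
    (h : Tw.d (A := k) (algebraMap (A k n) (Ext k n) a) = 0) : ∃ c : k, a = C c := by
  obtain ⟨c, hc⟩ := exists_const k n a
  refine ⟨c, ?_⟩
  have h1 : lie k n (algebraMap (A k n) (Ext k n) (a - C c)) = 0 := by
    rw [map_sub, map_sub, lie_C, sub_zero, lie_apply, con_algebraMap, h, map_zero, map_zero,
      add_zero]
  have h2 := eq_zero_of_lie k n _ hc h1
  have h3 := (ExteriorAlgebra.algebraMap_leftInverse (R := A k n) (Om k n)).injective
    (h2.trans (map_zero _).symm)
  exact sub_eq_zero.mp h3

end K935.Poincare
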