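import Groth.Agent.Omega.K935.DetSES
import Groth.Agent.Omega.K935.CoprodRank
import Groth.Agent.Krr.H495.ExtExist
import Groth.Agent.Krr.H492.EulerClass
import Groth.Agent.Dual.H339.OmegaRank
import Groth.Agent.Vancyc.H878.RelOmega
import Groth.Agent.Sga67.TensorOps
import Groth.Agent.Sga5.ProjSmooth
import Groth.Agent.Ega2.QCohLocal
import Groth.Agent.Ega3B.ProjProper
import Groth.Agent.PerfC.PullRestrict
import Groth.Prelude.Def_PicGrp

/-!
# The canonical sheaf of projective space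

* `K935.ProjCan.nonempty_sigma`: `Λ^k (M^{⊕ k}) ≅ M^{⊗ k}` for `M` invertible.
* `K935.ProjCan.nonempty_can_Z`: `Λ^m Ω ≅ O(-m-1)` on `P^m_ℤ`.
* `K935.ProjCan.nonempty_can`: the same over any base.
-/

set_option autoImplicit false
universe u

open CategoryTheory CategoryTheory.Limits AlgebraicGeometry Opposite TopologicalSpace
open Groth.Agent Groth.Agent.Sga67.Sec Groth.Agent.Sga67.LocBasis Groth.Agent.Sga67.TensorOps

namespace K935.ProjCan

variable {X : Scheme.{u}}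

/-- The top exterior power of `M^{⊕ k}`. -/
theorem nonempty_sigma {M : X.Modules} (hM : FlatMod.IsFinLocFreeOfRank 1 M) (k : ℕ) {L : X.Modules}
    (hL : ExtPow.IsExtPow k (∐ fun _ : Fin k => M) L) : Nonempty (L ≅ CohB1.tensorPow M k) := by
  induction k generalizing L with
  | zero => exact nonempty_iso_of_isExtPow (Iso.refl _) hL (isExtPow_zero _)
  | succ k ih =>
    have hk : FlatMod.IsFinLocFreeOfRank k (∐ fun _ : Fin k => M) := by
      have h1 := K935.CoprodRank.isFinLocFreeOfRank_sigma (fun _ : Fin k => M) (fun _ => 1) fun _ => hM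
      simpa using h1
    have hk' := Ega2.QCohLocal.isFinLocFree_of_rank hk
    obtain ⟨L', -, hL'⟩ := Krr.H495.ExtExist.exists_isExtPow k _ hk'
    obtain ⟨L₂, -, hL₂⟩ := Krr.H495.ExtExist.exists_isExtPow (k + 1) (M ⊞ ∐ fun _ : Fin k => M)
      (Krr.H495.Rank.isFinLocFree_biprod (Ega2.QCohLocal.isFinLocFree_of_rank hM) hk')
    let e : (∐ fun _ : Fin (k + 1) => M) ≅ M ⊞ ∐ (fun _ : Fin k => M) :=
      (coproductIsCoproduct fun _ : Fin (k + 1) => M).coconePointUniqueUpToIso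
        (extendCofanIsColimit (fun _ : Fin (k + 1) => M) (coproductIsCoproduct (fun _ : Fin k => M))
          (BinaryBiproduct.isColimit M (∐ fun _ : Fin k => M)))
    obtain ⟨e₁⟩ := nonempty_iso_of_isExtPow e hL hL₂
    obtain ⟨e₂⟩ := K935.DetSES.nonempty_iso
      (Krr.H495.Rank.shortExact_biprod M (∐ fun _ : Fin k => M)) (a := 1) (r := k) (n := k + 1) rfl hM hk
      (isExtPow_one _) hL₂ hL'
    obtain ⟨e₃⟩ := ih hL'
    exact ⟨e₁ ≪≫ e₂.symm ≪≫ PicGrp.tensorModIso e₃ (Iso.refl M)⟩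

attribute [local instance] Abelian.hasFiniteBiproducts

open Groth.Agent.Krr.H492.EulerMap Groth.Agent.Krr.H492.EulerSeq in
/-- The canonical sheaf of `P^m_ℤ`. -/
theorem nonempty_can_Z (m : ℕ) {L : (CohB1.ProjSpace.{u} m (ULift.{u} ℤ)).Modules}
    (hL : ExtPow.IsExtPow m (Omega.sheaf (CohB1.ProjSpace.toSpec.{u} m (ULift.{u} ℤ))) L) :
    Nonempty (L ≅ Twist.twistProjSpace m (ULift.{u} ℤ) (-(m : ℤ) - 1)) := by
  have hS := Krr.H492.EulerSeq.shortExact.{u} m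
  have hprop : IsProper (CohB1.ProjSpace.toSpec.{u} m (ULift.{u} ℤ)) := Ega3B.ProjProper.isProper_toSpec m _
  have h1 : FlatMod.IsFinLocFreeOfRank m (Krr.H492.EulerSeq.seq.{u} m).X₁ :=
    Dual.H339.OmegaRank.isFinLocFreeOfRank_omega m (CohB1.ProjSpace.toSpec.{u} m (ULift.{u} ℤ))
  have h3 : FlatMod.IsFinLocFreeOfRank 1 (Krr.H492.EulerSeq.seq.{u} m).X₃ :=
    Ega2.QCohLocal.isFinLocFreeOfRank_one_iff.mpr (Krr.H492.EulerClass.isInvertible_tw.{u} m 0)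
  have hM : FlatMod.IsFinLocFreeOfRank 1 (Twist.twistProjSpace.{u} m (ULift.{u} ℤ) (-1)) :=
    Ega2.QCohLocal.isFinLocFreeOfRank_one_iff.mpr (Krr.H492.EulerClass.isInvertible_tw.{u} m (-1))
  have hk : FlatMod.IsFinLocFree (∐ fun _ : Fin (m + 1) => Twist.twistProjSpace.{u} m (ULift.{u} ℤ) (-1)) :=
    Ega2.QCohLocal.isFinLocFree_of_rank (K935.CoprodRank.isFinLocFreeOfRank_sigma _ (fun _ => 1) fun _ => hM)
  obtain ⟨L₂, -, hL₂⟩ := Krr.H495.ExtExist.exists_isExtPow (m + 1) _ hk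
  obtain ⟨L₃, -, hL₃⟩ := Krr.H495.ExtExist.exists_isExtPow (m + 1) (Krr.H492.EulerSeq.seq.{u} m).X₂
    (Ega2.QCohLocal.isFinLocFree_of_rank (Krr.H495.Rank.rank_shortExact hS h1 h3))
  obtain ⟨e₀⟩ := nonempty_iso_of_isExtPow
    (biproduct.isoCoproduct fun _ : Fin (m + 1) => Twist.twistProjSpace.{u} m (ULift.{u} ℤ) (-1)) hL₃ hL₂
  obtain ⟨e₁⟩ := nonempty_sigma hM (m + 1) hL₂
  obtain ⟨e₂⟩ := K935.DetSES.nonempty_iso hS (a := m) (r := 1) (n := m + 1) (Nat.add_comm 1 m) h1 h3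
    hL hL₃ (isExtPow_one _)
  obtain ⟨e₃⟩ := Ega2.TwistInv.nonempty_unit_iso (CohB1.polyGrading.{u} m (ULift.{u} ℤ))
  obtain ⟨e₄⟩ := Ega2.TwistInv.nonempty_tensorPow_iso (Ega3B.ProjFrame.coveredByOne m (ULift.{u} ℤ)) (-1) (m + 1)
  have h5 : ((m + 1 : ℕ) : ℤ) * (-1) = -(m : ℤ) - 1 := by push_cast; ring
  refine ⟨(tensorUnit L).symm ≪≫ PicGrp.tensorModIso e₃ (Iso.refl L) ≪≫ e₂ ≪≫ e₀ ≪≫ e₁ ≪≫ e₄ ≪≫ eqToIso ?_⟩
  rw [h5]
  rfl

/-- **The canonical sheaf of projective space.** -/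
theorem nonempty_can (Y : Scheme.{u}) (n : ℕ) [QuasiSeparated (CohB1.ProjSpaceOver.toBase n Y)]
    {L : (CohB1.ProjSpaceOver n Y).Modules}
    (hL : ExtPow.IsExtPow n (Omega.sheaf (CohB1.ProjSpaceOver.toBase n Y)) L) :
    Nonempty (L ≅ Twist.twistOver n Y (-(n : ℤ) - 1)) := by
  let π := CohB1.ProjSpace.toSpec.{u} n (ULift.{u} ℤ)
  have hprop : IsProper π := Ega3B.ProjProper.isProper_toSpec n _
  let q₁ := pullback.fst π (specULiftZIsTerminal.from Y)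
  have H : IsPullback q₁ (CohB1.ProjSpaceOver.toBase n Y) π (specULiftZIsTerminal.from Y) :=
    IsPullback.of_hasPullback _ _
  have hΩ := Ega2.QCohLocal.isFinLocFree_of_rank (Dual.H339.OmegaRank.isFinLocFreeOfRank_omega n π)
  obtain ⟨LZ, -, hLZ⟩ := Krr.H495.ExtExist.exists_isExtPow n (Omega.sheaf π) hΩ
  obtain ⟨e₁⟩ := nonempty_can_Z n hLZ
  let e₂ : (Scheme.Modules.pullback q₁).obj (Omega.sheaf π) ≅ Omega.sheaf (CohB1.ProjSpaceOver.toBase n Y) :=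
    Vancyc.H878.RelOmega.omegaBC H
  obtain ⟨L', -, hL'⟩ := Krr.H495.ExtExist.exists_isExtPow n ((Scheme.Modules.pullback q₁).obj (Omega.sheaf π))
    (PerfC.PullRestrict.isFinLocFree_pullback q₁ hΩ)
  obtain ⟨e₃⟩ := Krr.H487.ExtPull.nonempty_pullback_iso q₁ hΩ hLZ hL'
  obtain ⟨e₄⟩ := nonempty_iso_of_isExtPow e₂ hL' hL
  exact ⟨e₄.symm ≪≫ e₃.symm ≪≫ (Scheme.Modules.pullback q₁).mapIso e₁⟩

end K935.ProjCan
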