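import Groth.Agent.OmegaSh.K583.ConMap
import Groth.Agent.Sga3B.AdAff
import Groth.Prelude.Def_NonAbH2
import Groth.Prelude.Def_Red

/-!
# The diagonal of a torsor is the pullback of the unit section

`G` a group over `S`, `Y` over `S`, `X` over `Y` a pseudo-torsor under `G_Y`, `g : X ×_Y X ⟶ G` the difference map.

* `K935.TorsorDiag.isPullback_diagonal`: the square `X → X ×_Y X → G`, `X → S → G` is cartesian.
* `K935.TorsorDiag.flat_diff`: `g` is flat if `X → S` is.
-/

set_option autoImplicit false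
universe u

open CategoryTheory MonoidalCategory CartesianMonoidalCategory MonObj AlgebraicGeometry Limits

namespace K935.TorsorDiag

/-- A retract square: sections of a base change. -/
theorem isPullback_section {C : Type*} [Category C] {P X Y Z : C} {fst : P ⟶ X} {snd : P ⟶ Y} {f : X ⟶ Z}
    {g : Y ⟶ Z} (h : IsPullback snd fst g f) (s : Y ⟶ P) (t : Z ⟶ X) (hs : s ≫ snd = 𝟙 Y) (ht : t ≫ f = 𝟙 Z)
    (w : s ≫ fst = g ≫ t) : IsPullback s g fst t := by
  refine IsPullback.of_right (h₁₂ := snd) (v₁₃ := g) (h₂₂ := f) ?_ w h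
  rw [hs, ht]
  exact IsPullback.of_horiz_isIso ⟨by simp⟩

variable {S : Scheme.{u}} {G Y : Over S} [GrpObj G] {X : Over Y.left}

/-- The unit section of the base change. -/
theorem isPullback_unit : IsPullback (η[Red.bc Y.hom G] : 𝟙_ _ ⟶ Red.bc Y.hom G).left Y.hom
    (pullback.fst G.hom Y.hom) (η[G] : 𝟙_ (Over S) ⟶ G).left := by
  refine isPullback_section (f := G.hom) (snd := pullback.snd G.hom Y.hom)
    (IsPullback.of_hasPullback G.hom Y.hom).flip _ _ ?_ ?_ (Groth.Agent.Sga3B.AdAff.unit_bc Y.hom G)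
  · exact Over.w (η[Red.bc Y.hom G])
  · exact Over.w (η[G])

/-- The section `x ↦ (1, x)`. -/
noncomputable def sec (G : Over S) [GrpObj G] (X : Over Y.left) : X ⟶ Red.bc Y.hom G ⊗ X :=
  lift (toUnit X ≫ η[Red.bc Y.hom G]) (𝟙 X)

theorem isPullback_fst (A X : Over S) : IsPullback (fst A X).left (snd A X).left A.hom X.hom :=
  IsPullback.of_hasPullback A.hom X.hom

theorem isPullback_sec : IsPullback (sec G X).left X.hom (fst (Red.bc Y.hom G) X).left
    (η[Red.bc Y.hom G] : 𝟙_ _ ⟶ Red.bc Y.hom G).left := by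
  refine isPullback_section (f := (Red.bc Y.hom G).hom) (snd := (snd (Red.bc Y.hom G) X).left)
    (isPullback_fst _ _).flip _ _ ?_ (Over.w (η[Red.bc Y.hom G])) ?_
  · rw [← Over.comp_left, sec, lift_snd]
    rfl
  · rw [← Over.comp_left, sec, lift_fst, Over.comp_left, Over.toUnit_left]

/-- The unit of the total square. -/
theorem isPullback_total : IsPullback (sec G X).left (X.hom ≫ Y.hom)
    ((fst (Red.bc Y.hom G) X).left ≫ pullback.fst G.hom Y.hom) (η[G] : 𝟙_ (Over S) ⟶ G).left :=
  isPullback_sec.paste_vert isPullback_unit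

variable (a : AlgGrp.Action (Red.bc Y.hom G) X)

theorem sec_diff : sec G X ≫ lift a.act (snd (Red.bc Y.hom G) X) = lift (𝟙 X) (𝟙 X) := by
  rw [comp_lift]
  congr 1
  · have h1 : sec G X = (λ_ X).inv ≫ (η[Red.bc Y.hom G] ▷ X) := by
      rw [sec]
      ext1
      · simp
      · simp
    rw [h1, Category.assoc, a.one_act, Iso.inv_hom_id]
  · rw [sec, lift_snd]

theorem diag_left : (lift (𝟙 X) (𝟙 X)).left = pullback.diagonal X.hom := by
  apply pullback.hom_ext
  · rw [pullback.diagonal_fst]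
    exact congrArg CommaMorphism.left (lift_fst (𝟙 X) (𝟙 X))
  · rw [pullback.diagonal_snd]
    exact congrArg CommaMorphism.left (lift_snd (𝟙 X) (𝟙 X))

variable (ha : IsIso (lift a.act (snd (Red.bc Y.hom G) X))) (g : pullback X.hom X.hom ⟶ G.left)
  (hg : (lift a.act (snd (Red.bc Y.hom G) X)).left ≫ g =
      (fst (Red.bc Y.hom G) X).left ≫ pullback.fst G.hom Y.hom)

include ha hg

/-- **The square `Δ_X`, unit is cartesian.** -/
theorem isPullback_diagonal : IsPullback (pullback.diagonal X.hom) (X.hom ≫ Y.hom) g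
    (η[G] : 𝟙_ (Over S) ⟶ G).left := by
  let Θ := lift a.act (snd (Red.bc Y.hom G) X)
  have hΘ : IsIso Θ.left := inferInstanceAs (IsIso ((Over.forget _).map Θ))
  refine IsPullback.of_iso (isPullback_total (G := G) (X := X)) (Iso.refl _) (asIso Θ.left) (Iso.refl _)
    (Iso.refl _) ?_ ?_ ?_ ?_
  · rw [asIso_hom, ← Over.comp_left, sec_diff, diag_left, Iso.refl_hom, Category.id_comp]
  · simp
  · rw [asIso_hom, Iso.refl_hom, Category.comp_id]
    exact hg.symm
  · simp

/-- The difference map is flat. -/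
theorem flat_diff [Flat (X.hom ≫ Y.hom)] : Flat g := by
  let Θ := lift a.act (snd (Red.bc Y.hom G) X)
  have hΘ : IsIso Θ.left := inferInstanceAs (IsIso ((Over.forget _).map Θ))
  have h1 : IsPullback ((fst (Red.bc Y.hom G) X).left ≫ pullback.fst G.hom Y.hom)
      (snd (Red.bc Y.hom G) X).left G.hom (X.hom ≫ Y.hom) :=
    ((isPullback_fst (Red.bc Y.hom G) X).flip.paste_vert (IsPullback.of_hasPullback G.hom Y.hom).flip).flip
  have h2 : Flat ((fst (Red.bc Y.hom G) X).left ≫ pullback.fst G.hom Y.hom) :=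
    MorphismProperty.of_isPullback h1.flip inferInstance
  rw [← hg] at h2
  exact (MorphismProperty.cancel_left_of_respectsIso @Flat Θ.left g).mp h2

end K935.TorsorDiag
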